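import Cfsg.Agent.H371.Core.Few
import Cfsg.Agent.H371.Core.Fam
import Cfsg.Agent.H493.PGF4T

/-!
# `²F₄(q)` (helper371)
-/

set_option autoImplicit false
set_option linter.unusedSectionVars false

namespace Cfsg.Agent.H371.Core

open CoxeterSystem Cfsg Cfsg.Lie Cfsg.Lie.ChevalleyDatum
open Cfsg.Agent.ChevalleyStructure Cfsg.Agent.ChevalleyStructure.Elts Cfsg.Agent.ChevalleyStructure.CoxeterGeom
  Cfsg.Agent.ChevalleyStructure.CoxeterGeomTypes Cfsg.Agent.ChevalleyStructure.NPerm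
open Cfsg.Agent.Tits.Roots Cfsg.Agent.Tits.Core Cfsg.Agent.Nodes Cfsg.Agent.Nodes.Reps Cfsg.Agent.Nodes.BNOf
  Cfsg.Agent.Nodes.RGDChev
open Cfsg.Agent.KFacts.RgdField Cfsg.Agent.KFacts.RgdChevCoord Cfsg.Agent.BpExc.TorCent Cfsg.Agent.BpExc.TorChev
open Cfsg.Agent.GpExc.Field Cfsg.Agent.BpExc.Tow Cfsg.Agent.BpExc.TowChev
  Cfsg.Agent.BpExc.LangFr Cfsg.Agent.BpExc Cfsg.Agent.H129.TorusChar Cfsg.Agent.H129.TorusUntw
open Cfsg.Agent.H493 Cfsg.Agent.H493.F4End Cfsg.Agent.H493.F4Tor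

universe u

namespace TwF4

section Alg

variable {k : Type u} [Field k] [IsAlgClosed k] [CharP k 2]
variable {W : Type*} [Group W] (cs : CoxeterSystem CoxeterMatrix.F₄ W)

/-- **Torus elements of a given odd order.** -/
theorem exists_t (hk : LocFin k) {hN : NSys CoxeterMatrix.F₄ (TT chevF4 k) (nc hp k)} {w : W}
    {n : ↥(chevF4.group k)} (hn : Rp cs hN w n) {Th : Fin 4 → Fin 4 → ℤ}
    (hTh : ∀ j, rep cs hp.isCartan w (sr (rv j)) = Th j) (m : ℕ) {r : ℕ} (hr0 : r ≠ 0) (hr2 : ¬ 2 ∣ r)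
    {L U : Fin 4 → ℤ} (hL : ∀ j, (r : ℤ) ∣ ∑ i, Th j i * L i - (eN j * 2 ^ m : ℕ) * L j)
    (hU : IsCoprime (r : ℤ) (∑ i, U i * L i)) :
    ∃ t ∈ TT chevF4 k, n * ste k m t * n⁻¹ = t ∧ orderOf t = r := by
  have : Fact (Nat.Prime 2) := ⟨Nat.prime_two⟩
  have : NeZero r := ⟨hr0⟩
  have hrk : (r : k) ≠ 0 := by
    rw [Ne, CharP.cast_eq_zero_iff k 2]
    exact hr2
  have : NeZero (r : k) := ⟨hrk⟩
  obtain ⟨u, hu⟩ := HasEnoughRootsOfUnity.exists_primitiveRoot k r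
  have hu0 : u ≠ 0 := hu.ne_zero hr0
  let La : (Fin 4 → ℤ) → ℤ := fun x => ∑ i, x i * L i
  have hLa : ∀ x y, La (x + y) = La x + La y := fun x y => by
    show ∑ i, (x + y) i * L i = _
    rw [← Finset.sum_add_distrib]
    exact Finset.sum_congr rfl fun i _ => by rw [Pi.add_apply, add_mul]
  have hMC : IsMC (fun x : Fin 4 → ℤ => u ^ La x) :=
    ⟨by show u ^ La 0 = 1; have : La 0 = 0 := Finset.sum_eq_zero fun i _ => by rw [Pi.zero_apply, zero_mul]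
        rw [this, zpow_zero], fun x y => by show u ^ La (x + y) = _; rw [hLa, zpow_add₀ hu0]⟩
  obtain ⟨t, ht, hcX⟩ := exists_cX hp invC_F4 one_ne_zero hMC fun i => ⟨_, pow_one _⟩
  have hone : ∀ z : ℤ, u ^ z = 1 ↔ (r : ℤ) ∣ z := fun z => hu.zpow_eq_one_iff_dvd z
  have hst := ste_TT (m := m) ht
  have hnst : n * ste k m t * n⁻¹ ∈ TT chevF4 k :=
    (Subgroup.mem_normalizer_iff.1 hn.mem_normalizer _).1 hst
  have hLsr : ∀ j, La (sr j) = L j := fun j => by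
    show ∑ i, (sr j : Fin 4 → ℤ) i * L i = L j
    rw [Finset.sum_eq_single j]
    · rw [sr_self, one_mul]
    · intro i _ hi
      rw [sr_ne hi, zero_mul]
    · intro h; exact absurd (Finset.mem_univ j) h
  refine ⟨t, ht, ?_, ?_⟩
  · have h1 : ∀ x, cX hp (n * ste k m t * n⁻¹) (rep cs hp.isCartan w x) = cX hp (ste k m t) x :=
      fun x => cX_rp hp cs hk 2 hn hst x
    have h2 : ∀ i, cX hp (ste k m t) (sr i) = cX hp t (rep cs hp.isCartan w (sr i)) := by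
      intro i
      have h3 := cX_ste m ht (rv i)
      rw [rv_rv] at h3
      rw [h3, hcX, hcX, hLsr, ← zpow_natCast, ← zpow_mul]
      have h4 := hTh (rv i)
      rw [rv_rv] at h4
      have h5 : La (rep cs hp.isCartan w (sr i)) = ∑ l, Th (rv i) l * L l := by rw [h4]
      obtain ⟨N, hN⟩ := hL (rv i)
      have h6 : La (rep cs hp.isCartan w (sr i)) = L (rv i) * ((eN (rv i) * 2 ^ m : ℕ) : ℤ) + (r : ℤ) * N := by
        rw [h5, ← hN]; ring
      rw [h6, zpow_add₀ hu0, (hone ((r : ℤ) * N)).2 (dvd_mul_right _ _), mul_one]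
    have h7 : ∀ x, cX hp (ste k m t) x = cX hp t (rep cs hp.isCartan w x) := fun x =>
      (isMC_cX hp hst).ext ((isMC_cX hp ht).comp (rep cs hp.isCartan w).toAddMonoidHom) h2 x
    refine cX_inj hp hnst ht fun i => ?_
    have h8 : sr i = rep cs hp.isCartan w (rep cs hp.isCartan w⁻¹ (sr i)) := by
      rw [← Module.End.mul_apply, ← map_mul, mul_inv_cancel, map_one, Module.End.one_apply]
    rw [h8, h1, h7]
  · have h1 : t ^ r = 1 := by
      refine cX_inj hp (pow_mem ht r) (one_mem _) fun i => ?_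
      rw [cX_pow hp ht, cX_one, hcX, ← zpow_natCast, ← zpow_mul, hone]
      exact dvd_mul_left _ _
    refine Nat.dvd_antisymm (orderOf_dvd_of_pow_eq_one h1) ?_
    have h2 : cX hp (t ^ orderOf t) U = cX hp t U ^ orderOf t := cX_pow hp ht _ _
    rw [pow_orderOf_eq_one, cX_one, hcX, ← zpow_natCast, ← zpow_mul, eq_comm, hone] at h2
    have h3 : (r : ℤ) ∣ (orderOf t : ℤ) := hU.dvd_of_dvd_mul_left h2
    exact Int.natCast_dvd_natCast.1 h3

end Alg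

section Main

variable {K : Type u} [Field K] [Fintype K] {m : ℕ} (hK : Fintype.card K = 2 ^ (2 * m + 1))

include hK

/-- **An element of the given order.** -/
theorem exists_orderOf {C : List (Fin 4 × H129.WData.Mat 4)} {Am : H129.WData.Mat 4}
    (hA : ∀ i j, Am i j = cartanOf chevF4 4 i j) (hC : H129.WData.ChainOK Am C) {Th : Fin 4 → Fin 4 → ℤ}
    (hTh : ∀ j, H129.WData.hd C (rv j) = Th j)
    {r : ℕ} (hr0 : r ≠ 0) (hr2 : ¬ 2 ∣ r)
    {L U : Fin 4 → ℤ} (hL : ∀ j, (r : ℤ) ∣ ∑ i, Th j i * L i - (eN j * 2 ^ m : ℕ) * L j)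
    (hU : IsCoprime (r : ℤ) (∑ i, U i * L i)) : ∃ g : ↥(twistedF4 K (2 ^ m)), orderOf g = r := by
  classical
  have : Fact (Nat.Prime 2) := ⟨Nat.prime_two⟩
  have hc2 : CharP K 2 := Cfsg.Agent.ChevalleyStructure.F4Fixed.charP_two hK
  obtain ⟨p, e, hpF, hpc, hpk, he, hpe, hk⟩ := exists_closure hK
  have hp2 : p = 2 := CharP.eq K hpc hc2
  subst hp2
  let k := AlgebraicClosure K
  let f : K →+* k := algebraMap K k
  let cs := CoxeterMatrix.F₄.toCoxeterSystem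
  have hN : NSys CoxeterMatrix.F₄ (TT chevF4 k) (nc hp k) := nsys_of_locFin hp cs hk 2
  obtain ⟨n, hn⟩ := exists_rp cs hN (cs.wordProd (C.map Prod.fst))
  obtain ⟨z, hz⟩ := F4Lang.lang_ste m n
  have hw : ∀ j, rep cs hp.isCartan (cs.wordProd (C.map Prod.fst)) (sr (rv j)) = Th j := fun j => by
    rw [H129.WData.chain_rep hp cs hA hC, hTh]
  obtain ⟨t, ht, h3, h4⟩ := exists_t cs hk hn hw m hr0 hr2 hL hU
  have hfix : ∀ y : ↥(chevF4.group k), n * ste k m y * n⁻¹ = y → ste k m (z * y * z⁻¹) = z * y * z⁻¹ := by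
    intro y h1
    have h2 : ste k m z = z * n := by rw [hz]; group
    rw [map_mul, map_mul, map_inv, h2]
    calc z * n * ste k m y * (z * n)⁻¹ = z * (n * ste k m y * n⁻¹) * z⁻¹ := by group
      _ = _ := by rw [h1]
  obtain ⟨g, hg, hgm⟩ := exists_fin f hK (hfix t h3)
  have ho : ∀ y : ↥(chevF4.group k), orderOf (z * y * z⁻¹) = orderOf y := fun y =>
    orderOf_injective (MulAut.conj z).toMonoidHom (MulAut.conj z).injective y
  have hgo : orderOf (g : GL chevF4.Idx K) = r := by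
    rw [Subgroup.orderOf_coe, ← orderOf_injective (emb hD f) (emb_injective hD f) g, hg, ho, h4]
  exact ⟨⟨g, hgm⟩, by rw [Subgroup.orderOf_mk, hgo]⟩

open Cfsg.Agent.H493.PGF4T

theorem exists_cert {C : List (Fin 4 × H129.WData.Mat 4)} (hC : H129.WData.ChainOK Am C) {Th : H129.WData.Mat 4}
    (hTh : ∀ j, H129.WData.hd C (rv j) = Th j)
    {F : ℤ → ℤ} {L : ℤ → Fin 4 → ℤ} {U : Fin 4 → ℤ} {G : ℤ → Fin 4 → ℤ} {c : ℤ} {H : ℤ → ℤ}
    (h : Cert Th F L U G c H) {N : ℕ} (hN : (N : ℤ) = F (2 ^ m)) : ∃ g : ↥(twistedF4 K (2 ^ m)), orderOf g = N := by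
  obtain ⟨z, hz⟩ := h.odd (2 ^ m)
  refine exists_orderOf hK hA hC hTh (L := L (2 ^ m)) (U := U) ?_ ?_ (h.hL (by rw [hN])) ?_
  · rintro rfl
    rw [hz] at hN
    push_cast at hN
    omega
  · intro h2
    have h3 := Int.natCast_dvd_natCast.2 h2
    rw [hN, hz] at h3
    push_cast at h3
    omega
  · rw [h.un, hN, add_comm]
    have h1 : IsCoprime (F (2 ^ m)) c := by
      rcases h.one with h0 | h0
      · rw [h0]; exact isCoprime_one_right
      · rw [h0]; exact isCoprime_one_right.neg_right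
    exact IsCoprime.mul_add_left_right h1 _

end Main

/-- numerics -/
theorem num {p f n m : ℕ} (A : Ar p f n m) {b : ℤ} (hb : 2 ≤ b) (hb2 : Even b)
    (h : ((p : ℤ) = PGF4T.fP b ∧ (n : ℤ) = PGF4T.fM b) ∨ ((p : ℤ) = PGF4T.fM b ∧ (n : ℤ) = PGF4T.fP b)) : False := by
  have h0 : (0 : ℤ) ≤ b := by linarith
  have a1 : 2 * b ≤ b ^ 2 := by nlinarith
  have a2 : 2 * b ^ 2 ≤ b ^ 3 := by nlinarith [mul_nonneg (sq_nonneg b) (by linarith : (0 : ℤ) ≤ b - 2)]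
  have a3 : 2 * b ^ 3 ≤ b ^ 4 := by nlinarith [mul_nonneg (pow_nonneg h0 3) (by linarith : (0 : ℤ) ≤ b - 2)]
  obtain ⟨e, he, h1, h2⟩ := eq_one_of_sq A (cast_sq (by
    have hp' : 2 * b ^ 4 + 1 ≤ p := by
      rcases h with ⟨h, -⟩ | ⟨h, -⟩ <;> rw [h] <;> simp only [PGF4T.fP, PGF4T.fM] <;> nlinarith
    have hn' : (n : ℤ) ≤ 8 * b ^ 4 + 1 := by
      rcases h with ⟨-, h⟩ | ⟨-, h⟩ <;> rw [h] <;> simp only [PGF4T.fP, PGF4T.fM] <;> nlinarith
    have h4 : 16 ≤ b ^ 4 := by nlinarith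
    have h3 : (2 * b ^ 4 + 1) ^ 2 ≤ (p : ℤ) ^ 2 := by
      have : 0 ≤ 2 * b ^ 4 + 1 := by linarith
      nlinarith
    nlinarith))
  rcases h with ⟨hp, hn⟩ | ⟨hp, hn⟩
  · rw [hp, hn] at h1
    simp only [PGF4T.fP, PGF4T.fM] at h1
    rcases he with rfl | rfl
    · have h5 : 2 * b * ((b - 3) * (2 * b ^ 2 + 1)) = 0 := by linarith
      rcases mul_eq_zero.1 h5 with h6 | h6
      · linarith
      · rcases mul_eq_zero.1 h6 with h7 | h7
        · obtain ⟨c, hc⟩ := hb2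
          omega
        · nlinarith
    · obtain ⟨c, hc⟩ := hb2
      have h5 : b * (2 * b ^ 3 - 6 * b ^ 2 + b - 3) = -1 := by linarith
      rw [hc] at h5
      have h6 : 2 * (c * (2 * (c + c) ^ 3 - 6 * (c + c) ^ 2 + (c + c) - 3)) = -1 := by linarith
      omega
  · rw [hp, hn] at h1
    simp only [PGF4T.fP, PGF4T.fM] at h1
    rcases he with rfl | rfl <;> nlinarith

end TwF4

open TwF4 in
theorem not_2F4' {K : Type u} [Field K] [Fintype K] {k : ℕ} (hk : 1 ≤ k) (hK : Fintype.card K = 2 ^ (2 * k + 1))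
    {p f n m : ℕ} (B : Bad ↥(twistedF4 K (2 ^ k)) p f n m) : False := by
  have hcard := Cfsg.Agent.S1068.result hK
  have hb : (2 : ℤ) ≤ 2 ^ k := by
    calc (2 : ℤ) = 2 ^ 1 := by norm_num
      _ ≤ 2 ^ k := pow_le_pow_right₀ (by norm_num) hk
  have hb2 : Even ((2 : ℤ) ^ k) := (by decide : Even (2 : ℤ)).pow_of_ne_zero (by omega)
  generalize hbb : ((2 : ℤ) ^ k) = b at hb hb2
  -- the two numbers
  have hPpos : 0 < PGF4T.fP b := by unfold PGF4T.fP; positivity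
  have hMpos : 0 < PGF4T.fM b := by
    unfold PGF4T.fM
    nlinarith [pow_pos (by linarith : (0 : ℤ) < b) 3, mul_pos (pow_pos (by linarith : (0 : ℤ) < b) 3) (by linarith : (0 : ℤ) < b - 1)]
  obtain ⟨P, hP⟩ : ∃ P : ℕ, (P : ℤ) = PGF4T.fP b := ⟨(PGF4T.fP b).toNat, Int.toNat_of_nonneg hPpos.le⟩
  obtain ⟨M, hM⟩ : ∃ M : ℕ, (M : ℤ) = PGF4T.fM b := ⟨(PGF4T.fM b).toNat, Int.toNat_of_nonneg hMpos.le⟩
  have gP := exists_cert hK PGF4T.chainEp_ok PGF4T.hThEp PGF4T.certEp_fP (N := P) (by rw [hP, hbb])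
  have gM := exists_cert hK PGF4T.chainEm_ok PGF4T.hThEm PGF4T.certEm_fM (N := M) (by rw [hM, hbb])
  -- the classes
  have hcov : ∀ r : ℕ, r.Prime → r ∣ Nat.card ↥(twistedF4 K (2 ^ k)) → ¬ H94.PG.Conn ↥(twistedF4 K (2 ^ k)) 2 r →
      r ∣ P ∨ r ∣ M := by
    intro r hr hd hnc
    rcases PGF4T.cover (m := k) hr (by rw [← hcard]; exact hd) with h | h | h
    · exact absurd (conn_of_conn (PGF4T.conn_main hk hK hr h)).symm hnc
    · rw [hbb, ← hP] at h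
      exact Or.inl (Int.natCast_dvd_natCast.1 h)
    · rw [hbb, ← hM] at h
      exact Or.inr (Int.natCast_dvd_natCast.1 h)
  -- the order
  have hPM : (P : ℤ) * M = (2 * b ^ 2) ^ 4 - (2 * b ^ 2) ^ 2 + 1 := by
    rw [hP, hM]
    unfold PGF4T.fP PGF4T.fM
    ring
  obtain ⟨q, hq⟩ : ∃ q : ℕ, q = 2 ^ (2 * k + 1) := ⟨_, rfl⟩
  have hqb : (q : ℤ) = 2 * b ^ 2 := by
    rw [hq, ← hbb, ← pow_mul]
    push_cast
    ring
  have hq1 : 1 ≤ q := by rw [hq]; exact Nat.one_le_two_pow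
  have hq4 : 1 ≤ q ^ 4 := Nat.one_le_pow _ _ hq1
  obtain ⟨T, hT⟩ : ∃ T : ℕ, T = q ^ 12 * (q - 1) * (q ^ 3 + 1) * (q ^ 4 - 1) * (q ^ 2 + 1) := ⟨_, rfl⟩
  have hT1 : Nat.card ↥(twistedF4 K (2 ^ k)) = T * (P * M) := by
    rw [hcard, ← hq, hT]
    have h1 : q ^ 6 + 1 = (q ^ 2 + 1) * (P * M) := by
      have : (q : ℤ) ^ 6 + 1 = ((q : ℤ) ^ 2 + 1) * ((P : ℤ) * M) := by
        rw [hPM, hqb]; ring
      exact_mod_cast this
    rw [h1]
    ring
  have hT2 : ∀ r : ℕ, r.Prime → r ∣ T → H94.PG.Conn ↥(twistedF4 K (2 ^ k)) 2 r := by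
    intro r hr hd
    refine (conn_of_conn (PGF4T.conn_main hk hK hr ?_)).symm
    rw [hbb]
    have hr' : Prime (r : ℤ) := Nat.prime_iff_prime_int.1 hr
    have h2 := Int.natCast_dvd_natCast.2 hd
    rw [hT, Nat.cast_mul, Nat.cast_mul, Nat.cast_mul, Nat.cast_mul, Nat.cast_sub hq1, Nat.cast_sub hq4] at h2
    push_cast at h2
    by_cases h0 : (r : ℤ) ∣ (q : ℤ) ^ 12
    · have h3 := hr'.dvd_of_dvd_pow h0
      have h4 : r ∣ q := Int.natCast_dvd_natCast.1 h3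
      rw [hq] at h4
      exact Or.inl ((Nat.prime_dvd_prime_iff_eq hr Nat.prime_two).1 (hr.dvd_of_dvd_pow h4))
    · rw [hqb] at h2 h0
      have e : (2 * b ^ 2) ^ 12 * (2 * b ^ 2 - 1) * ((2 * b ^ 2) ^ 3 + 1) * ((2 * b ^ 2) ^ 4 - 1) * ((2 * b ^ 2) ^ 2 + 1) =
          (2 * b ^ 2) ^ 12 * PGF4T.f1 b * (PGF4T.f2 b * PGF4T.f6 b) *
            (PGF4T.f1 b * PGF4T.f2 b * PGF4T.fp b * PGF4T.fm b) * (PGF4T.fp b * PGF4T.fm b) := by
        unfold PGF4T.f1 PGF4T.f2 PGF4T.f6 PGF4T.fp PGF4T.fm; ring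
      rw [e] at h2
      simp only [hr'.dvd_mul] at h2
      tauto
  have hn0 : n ∣ T * (P * M) := by rw [← hT1]; exact B.dvd_n' dvd_rfl
  have hcopT : n.Coprime T := by
    refine Nat.coprime_of_dvd fun r hr h1 h2 => ?_
    exact B.not_conn_n hr h1 (hT2 r hr h2)
  have hn1 : n ∣ P * M := hcopT.dvd_of_dvd_mul_left hn0
  have key : ∀ X Y : ℕ, n ∣ X * Y → X = p → (∃ g : ↥(twistedF4 K (2 ^ k)), orderOf g = Y) → 
      (∀ r : ℕ, r.Prime → r ∣ n → r ∣ X ∨ r ∣ Y) → n = Y := by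
    intro X Y h1 hX hY h2
    have hcop : n.Coprime X := by
      rw [hX]
      exact B.A.cop_pn.symm
    refine Nat.dvd_antisymm (hcop.dvd_of_dvd_mul_left h1) ?_
    obtain ⟨r, hr, hrn⟩ := B.exists_prime
    have hrY : r ∣ Y := by
      rcases h2 r hr hrn with h | h
      · exact absurd (Nat.dvd_gcd hrn h) (by rw [hcop]; exact fun h => hr.one_lt.ne' (Nat.dvd_one.1 h))
      · exact h
    exact B.dvd_n hY hr hrn hrY
  refine num B.A hb hb2 ?_
  rcases hcov p B.A.hp B.dvd_p' B.not_conn_p with h | h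
  · left
    have hp := B.eq_p gP h
    have hn := key P M hn1 hp gM (fun r hr hrn => hcov r hr (B.dvd_n' hrn) (B.not_conn_n hr hrn))
    exact ⟨by rw [← hp, hP], by rw [hn, hM]⟩
  · right
    have hp := B.eq_p gM h
    have hn := key M P (by rw [mul_comm]; exact hn1) hp gP
      (fun r hr hrn => (hcov r hr (B.dvd_n' hrn) (B.not_conn_n hr hrn)).symm)
    exact ⟨by rw [← hp, hM], by rw [hn, hP]⟩

/-- **No `²F₄(q)`.** -/
theorem not_2F4 {S : Type*} [Group S] (h : Cfsg.Lie.Iso2F4 S) {p f n m : ℕ} (B : Bad S p f n m) : False := by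
  obtain ⟨K, _, _, k, hk, hK, ⟨e⟩⟩ := h
  exact not_2F4' hk hK (B.congr e)

end Cfsg.Agent.H371.Core
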