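import Cfsg.Agent.H371.Core.Base
import Cfsg.Agent.H371.RedFin
import Cfsg.Agent.S0253
import Cfsg.Agent.S0254
import Cfsg.Prelude.Def_Classical

/-!
# Alternating groups (helper371)
-/

set_option autoImplicit false

namespace Cfsg.Agent.H371.Core

open Cfsg.Agent.H94 Equiv.Perm

theorem exists_alt {k : ℕ} (s : Multiset ℕ) (h1 : s.sum ≤ k) (h2 : ∀ a ∈ s, 2 ≤ a) (h3 : Even (s.sum + s.card)) :
    ∃ g : alternatingGroup (Fin k), orderOf g = s.lcm := by
  obtain ⟨g, hg⟩ := (Equiv.Perm.exists_with_cycleType_iff (Fin k) (m := s)).2 ⟨by rwa [Fintype.card_fin], h2⟩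
  refine ⟨⟨g, ?_⟩, ?_⟩
  · rw [Equiv.Perm.mem_alternatingGroup, Equiv.Perm.sign_of_cycleType, hg]
    exact h3.neg_one_pow
  · rw [Subgroup.orderOf_mk, ← Equiv.Perm.lcm_cycleType, hg]

theorem sq_not_dvd_factorial {r k : ℕ} (hr : r.Prime) (h : k < 2 * r) (h3 : 3 ≤ r) : ¬ r ^ 2 ∣ k.factorial := by
  intro hd
  have hlt : k < r ^ 2 := by nlinarith
  have hlog : Nat.log r k < 2 := Nat.log_lt_of_lt_pow' (by norm_num) hlt
  rw [hr.pow_dvd_factorial_iff hlog] at hd
  have e : Finset.Ico 1 2 = {1} := by decide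
  rw [e, Finset.sum_singleton, pow_one] at hd
  have h2 : k / r < 2 := (Nat.div_lt_iff_lt_mul hr.pos).2 h
  omega

theorem card_alt_dvd {k : ℕ} (hk : 2 ≤ k) : Nat.card (alternatingGroup (Fin k)) ∣ k.factorial := by
  have : Nontrivial (Fin k) := Fin.nontrivial_iff_two_le.2 hk
  have h := two_mul_nat_card_alternatingGroup (α := Fin k)
  rw [Nat.card_perm, Nat.card_fin] at h
  exact Dvd.intro_left _ h

/-- **No alternating group of degree at least `8`.** -/
theorem not_alt {k : ℕ} (hk : 8 ≤ k) {p f n m : ℕ} (B : Bad (alternatingGroup (Fin k)) p f n m) : False := by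
  have conn_lcm : ∀ {a b : ℕ} (s : Multiset ℕ), a.Prime → b.Prime → s.sum ≤ k → (∀ a ∈ s, 2 ≤ a) →
      Even (s.sum + s.card) → a ∈ s → b ∈ s → PG.Conn (alternatingGroup (Fin k)) a b := by
    intro a b s ha hb h1 h2 h3 has hbs
    obtain ⟨g, hg⟩ := exists_alt s h1 h2 h3
    refine PG.conn_of_orderOf ha hb (x := g) ?_ ?_
    · rw [hg]; exact Multiset.dvd_lcm has
    · rw [hg]; exact Multiset.dvd_lcm hbs
  have hge : ∀ r : ℕ, r.Prime → r ≠ 2 → ¬ PG.Conn (alternatingGroup (Fin k)) 2 r → k ≤ r + 2 := by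
    intro r hr hr2 hnc
    by_contra hlt
    have hodd : r % 2 = 1 := hr.eq_two_or_odd.resolve_left hr2
    have hr2' := hr.two_le
    rcases Nat.lt_or_ge (r + 3) k with h | h
    · apply hnc
      refine conn_lcm {r, 2, 2} Nat.prime_two hr ?_ ?_ ?_ (by simp) (by simp)
      · simp; omega
      · intro a ha
        simp at ha
        rcases ha with rfl | rfl
        · exact hr2'
        · exact le_rfl
      · rw [Nat.even_iff]
        simp
        omega
    · apply hnc
      have c1 : PG.Conn (alternatingGroup (Fin k)) 2 3 := by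
        refine conn_lcm {3, 2, 2} Nat.prime_two Nat.prime_three ?_ ?_ ?_ (by simp) (by simp)
        · simp; omega
        · intro a ha
          simp at ha
          omega
        · rw [Nat.even_iff]; simp
      refine c1.trans (conn_lcm {r, 3} Nat.prime_three hr ?_ ?_ ?_ (by simp) (by simp))
      · simp; omega
      · intro a ha
        simp at ha
        omega
      · rw [Nat.even_iff]
        simp
        omega
  have hle : ∀ r : ℕ, r.Prime → r ∣ Nat.card (alternatingGroup (Fin k)) → r ≤ k := by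
    intro r hr hd
    exact (hr.dvd_factorial).1 (hd.trans (card_alt_dvd (by omega)))
  have hp1 := hge p B.A.hp B.A.hp2 B.not_conn_p
  have hp2 := hle p B.A.hp B.dvd_p'
  have hpo := B.A.podd
  obtain ⟨r, hr, hrn⟩ := B.exists_prime
  have hdet : ∀ s : ℕ, s.Prime → s ∣ n → s ≠ p ∧ s % 2 = 1 ∧ k ≤ s + 2 ∧ s ≤ k := by
    intro s hs hsn
    refine ⟨?_, hs.eq_two_or_odd.resolve_left (B.ne_two hsn), hge s hs (B.ne_two hsn) (B.not_conn_n hs hsn),
      hle s hs (B.dvd_n' hsn)⟩
    rintro rfl
    exact B.A.not_p_dvd_n hsn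
  have hr1 := hdet r hr hrn
  have huniq : ∀ {s : ℕ}, s.Prime → s ∣ n → s = r := by
    intro s hs hsn
    have := hdet s hs hsn
    omega
  have hn0 : n ≠ 0 := by have := B.A.hn3; omega
  have hpow := Nat.eq_prime_pow_of_unique_prime_dvd hn0 huniq
  set j := n.primeFactorsList.length with hj
  have hn3 := B.A.hn3
  have hnr : n = r := by
    rcases Nat.lt_or_ge j 2 with h | h
    · have : j = 0 ∨ j = 1 := by omega
      rcases this with h | h
      · rw [h, pow_zero] at hpow
        omega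
      · rw [h, pow_one] at hpow
        exact hpow
    · exfalso
      refine sq_not_dvd_factorial hr (k := k) (by omega) (by omega) ?_
      refine ((pow_dvd_pow r h).trans (dvd_of_eq hpow.symm)).trans ?_
      exact (B.dvd_n' dvd_rfl).trans (card_alt_dvd (by omega))
  rcases B.A.pm_two (by omega) with h | h
  · have := B.A.p_le
    omega
  · have := B.A.p_le
    have h9 : n ≤ 5 := by
      have := B.A.h
      omega
    omega

theorem altL2_of_galois {S : Type*} [Group S] (p n : ℕ) [Fact p.Prime] (hn : n ≠ 0) (hp : Odd p)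
    (h : ∀ (F : Type) (_ : Field F) (_ : Fintype F), Fintype.card F = p ^ n →
      Nonempty (S ≃* Matrix.ProjectiveSpecialLinearGroup (Fin 2) F)) : RedTwo.AltL2 S := by
  let _ : Fintype (GaloisField p n) := Fintype.ofFinite _
  have hc : Fintype.card (GaloisField p n) = p ^ n := by
    rw [← Nat.card_eq_fintype_card, GaloisField.card p n hn]
  refine Or.inr ⟨GaloisField p n, inferInstance, inferInstance, ?_, h _ _ _ hc⟩
  rw [hc]
  exact hp.pow

theorem altL2_five {S : Type*} [Group S] (e : S ≃* alternatingGroup (Fin 5)) : RedTwo.AltL2 S := by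
  have : Fact (Nat.Prime 5) := ⟨by norm_num⟩
  refine altL2_of_galois 5 1 one_ne_zero (by decide) fun F _ _ hF => ?_
  obtain ⟨e'⟩ := Cfsg.Agent.S0253.result (F := F) (by rw [hF]; norm_num)
  exact ⟨e.trans e'.symm⟩

theorem altL2_six {S : Type*} [Group S] (e : S ≃* alternatingGroup (Fin 6)) : RedTwo.AltL2 S := by
  have : Fact (Nat.Prime 3) := ⟨by norm_num⟩
  refine altL2_of_galois 3 2 two_ne_zero (by decide) fun F _ _ hF => ?_
  obtain ⟨e'⟩ := Cfsg.Agent.S0254.result (F := F) (by rw [hF]; norm_num)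
  exact ⟨e.trans e'.symm⟩

/-- **Alternating groups.** -/
theorem altL2_of_alt {S : Type*} [Group S] (h : Cfsg.IsAlternating S) {p f n m : ℕ} (B : Bad S p f n m) :
    RedTwo.AltL2 S := by
  obtain ⟨k, hk, ⟨e⟩⟩ := h
  rcases Nat.lt_or_ge k 8 with h8 | h8
  · have h5 : k = 5 ∨ k = 6 ∨ k = 7 := by omega
    rcases h5 with rfl | rfl | rfl
    · exact altL2_five e
    · exact altL2_six e
    · exact Or.inl ⟨e⟩
  · exact (not_alt h8 (B.congr e)).elim

end Cfsg.Agent.H371.Core
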