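import Cfsg.Agent.H371.Core.Num
import Cfsg.Agent.S0280
import Cfsg.Agent.H377.SpElt
import Cfsg.Agent.H377.OddThree
import Cfsg.Agent.H182.ThreeComp
import Cfsg.Agent.H948.UMain

/-!
# Classical groups with at most two prime graph components (helper371)
-/

set_option autoImplicit false

namespace Cfsg.Agent.H371.Core

open Cfsg.Agent.H94 Cfsg.Agent.H564.NearTwo

theorem two_psp {S : Type*} [Group S] (h : Cfsg.IsPSp S) : Two S := by
  intro a b ha hb _ _ hda hdb
  rcases H377.isPSp_three h ha hb hda hdb with h | h | h | h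
  · exact Or.inl h.conn.symm
  · exact Or.inr (Or.inl h.conn.symm)
  · rw [h]
    exact Or.inr (Or.inr Relation.ReflTransGen.refl)
  · exact Or.inr (Or.inr h.conn)

theorem two_pOmegaOdd {S : Type*} [Group S] (h : Cfsg.IsPOmegaOdd S) : Two S := by
  intro a b ha hb _ _ hda hdb
  rcases H377.OOdd.isPOmegaOdd_three h ha hb hda hdb with h | h | h | h
  · exact Or.inl h.conn.symm
  · exact Or.inr (Or.inl h.conn.symm)
  · rw [h]
    exact Or.inr (Or.inr Relation.ReflTransGen.refl)
  · exact Or.inr (Or.inr h.conn)

theorem two_pOmegaPlus {S : Type*} [Group S] (h : Cfsg.IsPOmegaPlus S) : Two S :=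
  fun ha hb ha2 hb2 hda hdb => H182.Orth.conn_of_isPOmegaPlus h ha hb ha2 hb2 hda hdb

/-- **No `PSU_n(q)`.** -/
theorem not_psu {S : Type*} [Group S] [Finite S] (h : Cfsg.IsPSU S) {p f n m : ℕ} (B : Bad S p f n m) : False := by
  by_cases h1 : ∃ (F : Type) (_ : Field F) (_ : Fintype F), Fintype.card F = 3 ^ 2 ∧
      Nonempty (S ≃* Cfsg.PSU 4 F 3)
  · obtain ⟨F, _, _, hF, ⟨e⟩⟩ := h1
    have hN : Nat.card S = 3265920 := by
      have h2 := Cfsg.Agent.S0280.result hF 4 (by norm_num)
      rw [← Nat.card_congr e.toEquiv] at h2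
      rw [Finset.prod_range_succ, Finset.prod_range_succ, Finset.prod_range_succ, Finset.prod_range_succ,
        Finset.prod_range_zero] at h2
      norm_num [Nat.even_iff] at h2
      omega
    refine B.card_false hN {5, 7} (fun r hr hd => ?_) (by decide +kernel)
    rw [Nat.card_congr e.toEquiv] at hd
    rw [PG.conn_congr e]
    rcases H948.UMain.psu_four_three hF hr hd with h | h | h
    · exact Or.inl h.conn.symm
    · right; simp [h]
    · right; simp [h]
  by_cases h2 : ∃ (F : Type) (_ : Field F) (_ : Fintype F), Fintype.card F = 2 ^ 2 ∧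
      Nonempty (S ≃* Cfsg.PSU 6 F 2)
  · obtain ⟨F, _, _, hF, ⟨e⟩⟩ := h2
    have hN : Nat.card S = 9196830720 := by
      have h2 := Cfsg.Agent.S0280.result hF 6 (by norm_num)
      rw [← Nat.card_congr e.toEquiv] at h2
      rw [Finset.prod_range_succ, Finset.prod_range_succ, Finset.prod_range_succ, Finset.prod_range_succ,
        Finset.prod_range_succ, Finset.prod_range_succ, Finset.prod_range_zero] at h2
      norm_num [Nat.even_iff] at h2
      omega
    refine B.card_false hN {7, 11} (fun r hr hd => ?_) (by decide +kernel)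
    rw [Nat.card_congr e.toEquiv] at hd
    rw [PG.conn_congr e]
    rcases H948.UMain.psu_six_two hF hr hd with h | h | h
    · exact Or.inl h.conn.symm
    · right; simp [h]
    · right; simp [h]
  refine B.not_two fun {a b} ha hb ha2 hb2 hda hdb => ?_
  rcases H948.UMain.psu_three h ha hb ha2 hb2 hda hdb with h | h | h | h | h
  · exact Or.inl h
  · exact Or.inr (Or.inl h)
  · exact Or.inr (Or.inr h)
  · exact absurd h h1
  · exact absurd h h2

end Cfsg.Agent.H371.Core
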