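import Cfsg.Agent.H371.Core.Alt
import Cfsg.Agent.H371.Core.Num
import Cfsg.Agent.H371.PslThree
import Cfsg.Agent.H390.PslSpec
import Cfsg.Agent.S0252
import Cfsg.Agent.S0255
import Cfsg.Agent.S0243

/-!
# `PSL_n(q)` (helper371)
-/

set_option autoImplicit false

namespace Cfsg.Agent.H371.Core

open Cfsg.Agent.H94

/-- `PSL_2(Q)`, `Q ≥ 8` even -/
theorem not_psl_two_even {F : Type*} [Field F] [Fintype F] (hF : 8 ≤ Fintype.card F) (he : Even (Fintype.card F))
    {p f n m : ℕ} (B : Bad (Matrix.ProjectiveSpecialLinearGroup (Fin 2) F) p f n m) : False := by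
  obtain ⟨s, hs⟩ := CharP.exists F
  obtain ⟨g, hsp, hsg⟩ := FiniteField.card F s
  have hs2 : s = 2 := by
    have heven : Even (s ^ (g : ℕ)) := by rw [← hsg]; exact he
    exact (hsp.even_iff).mp (Nat.even_pow.mp heven).1
  subst hs2
  have := Fact.mk Nat.prime_two
  have hrange := H390.PslSpec.range_orderOf (F := F) (p := 2) (by omega)
  have hdd : H390.PslSpec.dd (Fintype.card F) = 1 := H390.PslSpec.dd_even he (by omega)
  set q := Fintype.card F with hqdef
  have hcases : ∀ g : Matrix.ProjectiveSpecialLinearGroup (Fin 2) F, orderOf g ∣ 2 ∨ orderOf g ∣ q - 1 ∨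
      orderOf g ∣ q + 1 := by
    intro g
    have h1 : orderOf g ∈ Set.range (orderOf : Matrix.ProjectiveSpecialLinearGroup (Fin 2) F → ℕ) := ⟨g, rfl⟩
    rw [hrange] at h1
    simpa [H390.PslSpec.specSet, hdd] using h1
  have hex : ∀ k : ℕ, (k ∣ 2 ∨ k ∣ q - 1 ∨ k ∣ q + 1) →
      ∃ g : Matrix.ProjectiveSpecialLinearGroup (Fin 2) F, orderOf g = k := by
    intro k hk
    have h1 : k ∈ Set.range (orderOf : Matrix.ProjectiveSpecialLinearGroup (Fin 2) F → ℕ) := by
      rw [hrange]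
      simpa [H390.PslSpec.specSet, hdd] using hk
    obtain ⟨g, hg⟩ := h1
    exact ⟨g, hg⟩
  have hn3 := B.A.hn3
  obtain ⟨r, hr, hrn⟩ := B.exists_prime
  have hpc : p ∣ q - 1 ∨ p ∣ q + 1 := by
    obtain ⟨x, hx⟩ := B.gp
    rcases hcases x with h | h | h
    · rw [hx] at h
      exact absurd ((Nat.prime_dvd_prime_iff_eq B.A.hp Nat.prime_two).1 h) B.A.hp2
    · exact Or.inl (hx ▸ h)
    · exact Or.inr (hx ▸ h)
  have hnc : n ∣ q - 1 ∨ n ∣ q + 1 := by
    obtain ⟨x, hx⟩ := B.gn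
    rcases hcases x with h | h | h
    · rw [hx] at h
      have := Nat.le_of_dvd (by norm_num) h
      omega
    · exact Or.inl (hx ▸ h)
    · exact Or.inr (hx ▸ h)
  have hdp : ∀ {T : ℕ}, (T ∣ 2 ∨ T ∣ q - 1 ∨ T ∣ q + 1) → p ∣ T → n ∣ T → False := by
    intro T hT h1 h2
    have h3 := B.eq_p (hex T hT) h1
    rw [h3] at h2
    rcases (Nat.dvd_prime B.A.hp).1 h2 with h4 | h4
    · omega
    · exact B.A.not_p_dvd_n (dvd_of_eq h4.symm)
  have h59 := B.A.p_le
  have hfin : p = n + 2 ∨ n = p + 2 → 6 < p → False := by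
    intro h h7
    rcases B.A.pm_two h with h | h
    · omega
    · have := B.A.h
      have hpp := B.A.dvd_pow
      rw [h] at hpp
      have h10 : p ∣ 3 ^ 2 := hpp
      have := (Nat.prime_dvd_prime_iff_eq B.A.hp Nat.prime_three).1 (B.A.hp.dvd_of_dvd_pow h10)
      omega
  rcases hpc with h1 | h1 <;> rcases hnc with h2 | h2
  · exact hdp (Or.inr (Or.inl dvd_rfl)) h1 h2
  · have h3 := B.eq_p (hex _ (Or.inr (Or.inl dvd_rfl))) h1
    have h4 := B.dvd_n (hex _ (Or.inr (Or.inr dvd_rfl))) hr hrn (hrn.trans h2)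
    have h5 := Nat.dvd_antisymm h2 h4
    exact hfin (by omega) (by omega)
  · have h3 := B.eq_p (hex _ (Or.inr (Or.inr dvd_rfl))) h1
    have h4 := B.dvd_n (hex _ (Or.inr (Or.inl dvd_rfl))) hr hrn (hrn.trans h2)
    have h5 := Nat.dvd_antisymm h2 h4
    exact hfin (by omega) (by omega)
  · exact hdp (Or.inr (Or.inr dvd_rfl)) h1 h2

/-- an element of order 4 in `PSL_3(F)`, char 2 -/
theorem exists_four {F : Type*} [Field F] [Finite F] [CharP F 2] :
    ∃ g : Matrix.ProjectiveSpecialLinearGroup (Fin 3) F, 4 ∣ orderOf g := by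
  have h2 : (2 : F) = 0 := CharTwo.two_eq_zero
  let A : Matrix.SpecialLinearGroup (Fin 3) F := ⟨!![1, 1, 0; 0, 1, 1; 0, 0, 1], by simp [Matrix.det_fin_three]⟩
  refine ⟨QuotientGroup.mk A, ?_⟩
  have e : (A ^ 2 : Matrix.SpecialLinearGroup (Fin 3) F).1 = !![1, 0, 1; 0, 1, 0; 0, 0, 1] := by
    have e0 : (A ^ 2 : Matrix.SpecialLinearGroup (Fin 3) F).1 = A.1 * A.1 := by rw [pow_two]; rfl
    rw [e0]
    ext i j
    fin_cases i <;> fin_cases j <;>
      simp [A, Matrix.mul_apply, Fin.sum_univ_three, CharTwo.add_self_eq_zero]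
  have hA2 : (A ^ 2 : Matrix.SpecialLinearGroup (Fin 3) F).1 0 2 = 1 := by
    rw [e]; simp
  have hA4 : A ^ 4 = 1 := by
    have e4 : A ^ 4 = A ^ 2 * A ^ 2 := by rw [← pow_add]
    apply Subtype.ext
    have e5 : (A ^ 4 : Matrix.SpecialLinearGroup (Fin 3) F).1 = (A ^ 2).1 * (A ^ 2).1 := by rw [e4]; rfl
    rw [e5, e]
    ext i j
    fin_cases i <;> fin_cases j <;>
      simp [Matrix.mul_apply, Fin.sum_univ_three, CharTwo.add_self_eq_zero]
  have hne : (QuotientGroup.mk A : Matrix.ProjectiveSpecialLinearGroup (Fin 3) F) ^ 2 ≠ 1 := by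
    rw [← QuotientGroup.mk_pow]
    intro h
    have h1 := (QuotientGroup.eq_one_iff _).1 h
    rw [Matrix.SpecialLinearGroup.mem_center_iff] at h1
    obtain ⟨r, -, hr⟩ := h1
    have h3 : (A ^ 2 : Matrix.SpecialLinearGroup (Fin 3) F).1 0 2 = 0 := by
      rw [← hr]
      simp
    rw [hA2] at h3
    exact one_ne_zero h3
  have h4 : (QuotientGroup.mk A : Matrix.ProjectiveSpecialLinearGroup (Fin 3) F) ^ 4 = 1 := by
    rw [← QuotientGroup.mk_pow, hA4]
    rfl
  have h5 : orderOf (QuotientGroup.mk A : Matrix.ProjectiveSpecialLinearGroup (Fin 3) F) = 2 ^ (1 + 1) :=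
    orderOf_eq_prime_pow (by simpa using hne) (by simpa using h4)
  rw [h5]
  norm_num

theorem chk315 : ∀ p ∈ [3, 5, 7], ∀ n ∈ Nat.divisors 315, ¬ p ∣ n → Ok p n →
    (p, n) ∈ [(3, 5), (5, 3), (5, 63), (7, 3)] := by
  decide +kernel

/-- `PSL_3(4)` -/
theorem not_psl_three_four {F : Type*} [Field F] [Fintype F] (hF : Fintype.card F = 4)
    {p f n m : ℕ} (B : Bad (Matrix.ProjectiveSpecialLinearGroup (Fin 3) F) p f n m) : False := by
  have hN : Nat.card (Matrix.ProjectiveSpecialLinearGroup (Fin 3) F) = 20160 := by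
    have h := Cfsg.Agent.S0243.result (F := F) hF 3 (by norm_num)
    rw [Fin.prod_univ_three] at h
    norm_num at h
    omega
  have : CharP F 2 := by
    obtain ⟨s, hs⟩ := CharP.exists F
    obtain ⟨g, hsp, hsg⟩ := FiniteField.card F s
    have heven : Even (s ^ (g : ℕ)) := by rw [← hsg, hF]; decide
    have := (hsp.even_iff).mp (Nat.even_pow.mp heven).1
    rwa [this] at hs
  have hn2 : n.Coprime 64 := by
    have : n.Coprime (2 ^ 6) := Nat.Coprime.pow_right 6 (Nat.coprime_two_right.2 B.A.hn)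
    exact this
  have hn315 : n ∣ 315 := by
    have h1 : n ∣ 64 * 315 := by
      have := B.dvd_n' (dvd_refl n)
      rw [hN] at this
      exact this
    exact hn2.dvd_of_dvd_mul_left h1
  have hp : p ∈ [3, 5, 7] := by
    have h1 : p ∣ 2 ^ 6 * 3 ^ 2 * 5 * 7 := by
      have := B.dvd_p'
      rw [hN] at this
      exact this
    simp only [List.mem_cons, List.not_mem_nil, or_false]
    rcases (B.A.hp.dvd_mul).1 h1 with h1 | h1
    · rcases (B.A.hp.dvd_mul).1 h1 with h1 | h1
      · rcases (B.A.hp.dvd_mul).1 h1 with h1 | h1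
        · exact absurd ((Nat.prime_dvd_prime_iff_eq B.A.hp Nat.prime_two).1 (B.A.hp.dvd_of_dvd_pow h1)) B.A.hp2
        · exact Or.inl ((Nat.prime_dvd_prime_iff_eq B.A.hp Nat.prime_three).1 (B.A.hp.dvd_of_dvd_pow h1))
      · exact Or.inr (Or.inl ((Nat.prime_dvd_prime_iff_eq B.A.hp (by norm_num)).1 h1))
    · exact Or.inr (Or.inr ((Nat.prime_dvd_prime_iff_eq B.A.hp (by norm_num)).1 h1))
  have hle : n ≤ 315 := Nat.le_of_dvd (by norm_num) hn315
  have hok : Ok p n := B.ok (by
    have : (3 : ℕ) ^ 31 = 617673396283947 := by norm_num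
    omega)
  have h4 : 4 ∣ m := by
    obtain ⟨g, hg⟩ := exists_four (F := F)
    exact hg.trans (B.dvd_m_two ⟨g, rfl⟩ (Dvd.dvd.trans (by norm_num) hg))
  have h5 := B.prime_cases (r := 5) (by norm_num) (by rw [hN]; norm_num)
  have h7 := B.prime_cases (r := 7) (by norm_num) (by rw [hN]; norm_num)
  have h1 := chk315 p hp n (Nat.mem_divisors.2 ⟨hn315, by norm_num⟩) B.A.not_p_dvd_n hok
  have hnm := B.n_m_dvd
  simp only [List.mem_cons, Prod.mk.injEq, List.not_mem_nil, or_false] at h1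
  rcases h1 with ⟨rfl, rfl⟩ | ⟨rfl, rfl⟩ | ⟨rfl, rfl⟩ | ⟨rfl, rfl⟩ <;> rcases hnm with h | h <;> omega

/-- **`PSL_n(q)`.** -/
theorem altL2_of_psl {S : Type*} [Group S] (h : Cfsg.IsPSL S) {p f n m : ℕ} (B : Bad S p f n m) :
    RedTwo.AltL2 S := by
  obtain ⟨F, _, _, k, hk, h4, ⟨e⟩⟩ := h
  rcases Nat.lt_or_ge k 3 with hk3 | hk3
  · obtain rfl : k = 2 := by omega
    rcases Nat.even_or_odd (Fintype.card F) with he | ho
    · rcases Nat.lt_or_ge (Fintype.card F) 8 with h8 | h8
      · have hF : Fintype.card F = 4 := by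
          have h5 := h4 rfl
          have h6 : Fintype.card F ≠ 6 := by
            intro h6
            obtain ⟨s, hs⟩ := CharP.exists F
            obtain ⟨g, hsp, hsg⟩ := FiniteField.card F s
            rw [h6] at hsg
            have h2 : s ∣ 2 * 3 := by
              have : s ∣ s ^ (g : ℕ) := dvd_pow_self s g.2.ne'
              rw [← hsg] at this
              exact this
            have h7 : 2 ∣ s ^ (g : ℕ) := by rw [← hsg]; norm_num
            have h8 : 3 ∣ s ^ (g : ℕ) := by rw [← hsg]; norm_num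
            have h9 := (Nat.prime_dvd_prime_iff_eq Nat.prime_two hsp).1 (Nat.prime_two.dvd_of_dvd_pow h7)
            have h10 := (Nat.prime_dvd_prime_iff_eq Nat.prime_three hsp).1 (Nat.prime_three.dvd_of_dvd_pow h8)
            omega
          obtain ⟨c, hc⟩ := he
          omega
        obtain ⟨e'⟩ := Cfsg.Agent.S0252.result hF
        exact altL2_five (e.trans e')
      · exact (not_psl_two_even h8 he (B.congr e)).elim
    · exact Or.inr ⟨F, inferInstance, inferInstance, ho, ⟨e⟩⟩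
  · by_cases h24 : k = 3 ∧ (Nat.card F = 2 ∨ Nat.card F = 4)
    · obtain ⟨rfl, h2 | h2⟩ := h24
      · have : Fact (Nat.Prime 7) := ⟨by norm_num⟩
        refine altL2_of_galois 7 1 one_ne_zero (by decide) fun F' _ _ hF' => ?_
        obtain ⟨e'⟩ := Cfsg.Agent.S0255.result (F := F') (K := F) (by rw [hF']; norm_num)
          (by rw [← Nat.card_eq_fintype_card, h2])
        exact ⟨e.trans e'.symm⟩
      · rw [Nat.card_eq_fintype_card] at h2
        exact (not_psl_three_four h2 (B.congr e)).elim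
    · refine (B.not_two (Two.congr e.symm ?_)).elim
      intro a b ha hb ha2 hb2 hda hdb
      rcases Psl.three hk3 ha hb ha2 hb2 hda hdb with h | h | h | h
      · exact Or.inl h
      · exact Or.inr (Or.inl h)
      · exact Or.inr (Or.inr h)
      · exact absurd h h24

end Cfsg.Agent.H371.Core
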