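import Cfsg.Agent.H371.Core.Num
import Cfsg.Agent.H182.ThreeComp

/-!
# `PΩ⁻(2m, q)` (helper371)
-/

set_option autoImplicit false

namespace Cfsg.Agent.H371.Core

open QuadraticMap
open Cfsg.Agent.LieClassical.OrthCore Cfsg.Agent.LieClassical.OrthForms
open Cfsg.Agent.H182.Sign Cfsg.Agent.H403.Classify Cfsg.Agent.H182.Orth
open Cfsg.Agent.H94

section

variable {F : Type*} [Field F] [Finite F] {ι : Type} [Fintype ι] [DecidableEq ι]
  {Q : QuadraticForm F (ι → F)} {m : ℕ}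

theorem exists_orderOf_minus (hQ : Sg Q m (-1)) (hm : 4 ≤ m) {N : ℕ} (hN : Odd N)
    (h : N ∣ Nat.card F ^ (m - 1) + 1 ∨ N ∣ Nat.card F ^ m + 1) :
    ∃ s : Cfsg.POmega F ⇑Q, orderOf s = N := by
  have h1 : Elt F m (-1) N := by
    rcases h with h | h
    · exact (elt_tor_minus (by omega) h).extend (by omega) (Or.inr rfl) (Or.inr rfl)
    · exact elt_tor_minus (by omega) h
  obtain ⟨s, hs⟩ := exists_of_eltP hQ (by omega) (h1.odd hN (by omega))
  rw [odd_div_gcd hN] at hs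
  obtain ⟨y, -, hy⟩ := H371.exists_orderOf_of_dvd (isOfFinOrder_of_finite s) hs
  exact ⟨y, hy⟩

/-- `n ∣ A * B * C` with `n` prime to `A` and `C` -/
theorem dvd_mid {n A B C : ℕ} (h : n ∣ A * B * C) (hA : n.Coprime A) (hC : n.Coprime C) : n ∣ B :=
  hA.dvd_of_dvd_mul_left (hC.dvd_of_dvd_mul_right h)

theorem coprime_of_prime {n x : ℕ} (h : ∀ r : ℕ, r.Prime → r ∣ n → ¬ r ∣ x) : n.Coprime x :=
  Nat.coprime_of_dvd h

/-- numerics: `p = a`, `n = b` -/
theorem num_a {p f n m' a b X : ℕ} (A : Ar p f n m') (ha : 2 * a = X + 1) (hb : 4 * b = 3 * X + 1) (hX : 81 ≤ X)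
    (hp : p = a) (hn : n = b) : False := by
  subst hp hn
  have hf := A.hf
  rcases Nat.lt_or_ge f 2 with h | h
  · obtain rfl : f = 1 := by omega
    have := A.h
    rw [pow_one] at this
    omega
  · have h1 : p ^ 2 ≤ p ^ f := Nat.pow_le_pow_right A.hp.pos h
    have h2 := A.h
    have h3 : p ^ 2 ≤ 2 * n + 1 := by omega
    nlinarith

theorem num_b {p f n m' a b X : ℕ} (A : Ar p f n m') (ha : 2 * a = X + 1) (hb : 4 * b = 3 * X + 1) (hX : 81 ≤ X)
    (hp : p = b) (hn : n = a) : False := by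
  subst hp hn
  have hf := A.hf
  rcases Nat.lt_or_ge f 2 with h | h
  · obtain rfl : f = 1 := by omega
    have := A.h
    rw [pow_one] at this
    omega
  · have h1 : p ^ 2 ≤ p ^ f := Nat.pow_le_pow_right A.hp.pos h
    have h2 := A.h
    have h3 : p ^ 2 ≤ 2 * n + 1 := by omega
    nlinarith

theorem minus_false (hQ : Sg Q m (-1)) (hm : 5 ≤ m) (hmo : Odd m) (h3 : Nat.card F = 3) {c k : ℕ}
    (hc : c * k = Nat.card F ^ (m * (m - 1)) * (Nat.card F ^ m + 1) *
      ∏ i ∈ Finset.range (m - 1), (Nat.card F ^ (2 * (i + 1)) - 1)) (hk : k = Nat.card (Cfsg.POmega F ⇑Q))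
    {p f n m' : ℕ} (B : Bad (Cfsg.POmega F ⇑Q) p f n m') : False := by
  have hm4 : 4 ≤ m := by omega
  have hcases : ∀ r : ℕ, r.Prime → r ≠ 2 → r ∣ Nat.card (Cfsg.POmega F ⇑Q) → ¬ PG.Conn (Cfsg.POmega F ⇑Q) 2 r →
      r ∣ 3 ^ (m - 1) + 1 ∨ r ∣ 3 ^ m + 1 := by
    intro r hr hr2 hd hnc
    rcases minus_cases hQ hm4 hc hr hr2 (by rw [hk]; exact hd) with h | ⟨h, -⟩ | h
    · exact absurd h hnc
    · rw [h3] at h
      exact Or.inl h
    · rw [h3] at h
      exact Or.inr h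
  have hex : ∀ N : ℕ, Odd N → N ∣ 3 ^ (m - 1) + 1 ∨ N ∣ 3 ^ m + 1 → ∃ s : Cfsg.POmega F ⇑Q, orderOf s = N := by
    intro N hN h
    rw [← h3] at h
    exact exists_orderOf_minus hQ hm4 hN h
  -- the numbers
  obtain ⟨l, hl⟩ := hmo
  set X := 3 ^ (m - 1) with hX
  have hX3 : 3 ^ m = 3 * X := by
    rw [hX, ← pow_succ']
    congr 1
    omega
  have hX81 : 81 ≤ X := by
    calc 81 = 3 ^ 4 := by norm_num
      _ ≤ 3 ^ (m - 1) := Nat.pow_le_pow_right (by norm_num) (by omega)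
  have hX8 : X % 8 = 1 := by
    have e : m - 1 = 2 * l := by omega
    rw [hX, e, pow_mul, Nat.pow_mod]
    norm_num
  obtain ⟨a, ha⟩ : ∃ a, 2 * a = X + 1 := ⟨(X + 1) / 2, by omega⟩
  obtain ⟨b, hb⟩ : ∃ b, 4 * b = 3 * X + 1 := ⟨(3 * X + 1) / 4, by omega⟩
  have hao : Odd a := by
    rw [Nat.odd_iff]; omega
  have hbo : Odd b := by
    rw [Nat.odd_iff]; omega
  rw [hX3, ← ha, ← hb] at hcases
  rw [hX3, ← ha, ← hb] at hex
  -- `n` is prime to the factors
  have hn3 := B.A.hn3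
  have hc1 : ∀ i, 1 ≤ i → i + 2 ≤ m → ∀ r : ℕ, r.Prime → r ∣ n → ¬ r ∣ 3 ^ i - 1 ∧ ¬ r ∣ 3 ^ i + 1 := by
    intro i hi him r hr hrn
    constructor
    · intro h
      rw [← h3] at h
      exact B.not_conn_n hr hrn (conn_two_pow_sub hQ hm4 hi him hr (B.ne_two hrn) h)
    · intro h
      rw [← h3] at h
      exact B.not_conn_n hr hrn (conn_two_pow_add hQ hm4 hi him hr (B.ne_two hrn) h)
  have hc2 : ∀ r : ℕ, r.Prime → r ∣ n → ¬ r ∣ X - 1 := by
    intro r hr hrn h
    have e : m - 1 = 2 * l := by omega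
    rw [hX, e] at h
    rcases dvd_sq_sub hr h with h | h
    · exact (hc1 l (by omega) (by omega) r hr hrn).1 h
    · exact (hc1 l (by omega) (by omega) r hr hrn).2 h
  have hc3 : ∀ r : ℕ, r.Prime → r ∣ n → ¬ r ∣ 3 := by
    intro r hr hrn h
    rw [← h3] at h
    exact B.not_conn_n hr hrn (conn_two_of_dvd_card hQ hm4 hr (B.ne_two hrn) h)
  have hcop3 : n.Coprime (3 ^ (m * (m - 1))) := (coprime_of_prime hc3).pow_right _
  have hcopP : ∀ j, j + 2 ≤ m → n.Coprime (∏ i ∈ Finset.range j, (3 ^ (2 * (i + 1)) - 1)) := by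
    intro j hj
    refine Nat.Coprime.prod_right fun i hi => coprime_of_prime fun r hr hrn h => ?_
    rw [Finset.mem_range] at hi
    rcases dvd_sq_sub hr h with h | h
    · exact (hc1 (i + 1) (by omega) (by omega) r hr hrn).1 h
    · exact (hc1 (i + 1) (by omega) (by omega) r hr hrn).2 h
  have hX2 : 3 ^ (2 * (m - 2 + 1)) - 1 = 2 * a * (X - 1) := by
    have e1 : m - 2 + 1 = m - 1 := by omega
    have := Nat.sq_sub_sq (3 ^ (m - 1)) 1
    rw [one_pow, ← pow_mul, mul_comm (m - 1) 2, ← hX, ← ha] at this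
    rw [e1]
    exact this
  have hm2 : m - 1 = m - 2 + 1 := by omega
  have hnc : n ∣ 3 ^ (m * (m - 1)) * (4 * b) * ((∏ i ∈ Finset.range (m - 2), (3 ^ (2 * (i + 1)) - 1)) *
      (2 * a * (X - 1))) := by
    have h1 : n ∣ c * k := by
      rw [hk]
      exact (B.dvd_n' dvd_rfl).mul_left c
    rw [hc, h3, hX3, ← hb] at h1
    have e2 : ∏ i ∈ Finset.range (m - 1), (3 ^ (2 * (i + 1)) - 1) =
        (∏ i ∈ Finset.range (m - 2), (3 ^ (2 * (i + 1)) - 1)) * (2 * a * (X - 1)) := by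
      rw [hm2, Finset.prod_range_succ, hX2]
    rw [e2] at h1
    exact h1
  have hn2 : n.Coprime 2 := coprime_of_prime fun r hr hrn h =>
    B.ne_two hrn ((Nat.prime_dvd_prime_iff_eq hr Nat.prime_two).1 h)
  rcases hcases p B.A.hp B.A.hp2 B.dvd_p' B.not_conn_p with h | h
  · -- `p = a`
    have hpa : p ∣ a := by
      rcases (Nat.Prime.dvd_mul B.A.hp).1 h with h | h
      · exact absurd ((Nat.prime_dvd_prime_iff_eq B.A.hp Nat.prime_two).1 h) B.A.hp2
      · exact h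
    have hpa' : a = p := B.eq_p (hex a hao (Or.inl (Dvd.intro_left 2 rfl))) hpa
    have hra : ∀ r : ℕ, r.Prime → r ∣ n → ¬ r ∣ a := by
      intro r hr hrn h
      rw [hpa'] at h
      have := (Nat.prime_dvd_prime_iff_eq hr B.A.hp).1 h
      subst this
      exact B.A.not_p_dvd_n hrn
    have hnb : n ∣ b := by
      have h1 : n ∣ 4 * b := by
        refine dvd_mid hnc hcop3 ?_
        refine Nat.Coprime.mul_right (hcopP _ (by omega)) (Nat.Coprime.mul_right (Nat.Coprime.mul_right hn2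
          (coprime_of_prime hra)) (coprime_of_prime hc2))
      exact (Nat.Coprime.pow_right 2 hn2).dvd_of_dvd_mul_left h1
    obtain ⟨r, hr, hrn⟩ := B.exists_prime
    have hbn : b ∣ n := B.dvd_n (hex b hbo (Or.inr (Dvd.intro_left 4 rfl))) hr hrn (hrn.trans hnb)
    exact num_a B.A ha hb hX81 hpa'.symm (Nat.dvd_antisymm hnb hbn)
  · have hpb : p ∣ b := by
      rcases (Nat.Prime.dvd_mul B.A.hp).1 h with h | h
      · exact absurd ((Nat.prime_dvd_prime_iff_eq B.A.hp Nat.prime_two).1 (B.A.hp.dvd_of_dvd_pow (n := 2) h)) B.A.hp2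
      · exact h
    have hpb' : b = p := B.eq_p (hex b hbo (Or.inr (Dvd.intro_left 4 rfl))) hpb
    have hrb : ∀ r : ℕ, r.Prime → r ∣ n → ¬ r ∣ b := by
      intro r hr hrn h
      rw [hpb'] at h
      have := (Nat.prime_dvd_prime_iff_eq hr B.A.hp).1 h
      subst this
      exact B.A.not_p_dvd_n hrn
    have hna : n ∣ a := by
      have h1 : n ∣ 3 ^ (m * (m - 1)) * (4 * b) * (∏ i ∈ Finset.range (m - 2), (3 ^ (2 * (i + 1)) - 1)) *
          (2 * a) * (X - 1) := by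
        refine hnc.trans (dvd_of_eq ?_)
        ring
      have h2 : n ∣ 2 * a := by
        refine dvd_mid h1 ?_ (coprime_of_prime hc2)
        exact Nat.Coprime.mul_right (Nat.Coprime.mul_right hcop3
          (Nat.Coprime.mul_right (Nat.Coprime.pow_right 2 hn2) (coprime_of_prime hrb))) (hcopP _ (by omega))
      exact hn2.dvd_of_dvd_mul_left h2
    obtain ⟨r, hr, hrn⟩ := B.exists_prime
    have han : a ∣ n := B.dvd_n (hex a hao (Or.inl (Dvd.intro_left 2 rfl))) hr hrn (hrn.trans hna)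
    exact num_b B.A ha hb hX81 hpb'.symm (Nat.dvd_antisymm hna han)

end

/-- **No `PΩ⁻(2m, q)`.** -/
theorem not_pOmegaMinus {S : Type*} [Group S] (h : Cfsg.IsPOmegaMinus S) {p f n m' : ℕ} (B : Bad S p f n m') :
    False := by
  rcases conn_of_isPOmegaMinus h with h | ⟨F, _, _, m, a, b, h3, hm, -, hm4, hab, ⟨e⟩⟩
  · exact B.not_two fun ha hb ha2 hb2 hda hdb => h ha hb ha2 hb2 hda hdb
  · have hcard := Cfsg.Agent.S0294.result (F := F) rfl m hm4 a b hab
    simp only [← Nat.card_eq_fintype_card] at hcard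
    have hs := sg_minusForm (F := F) (m - 1) hab
    rw [Nat.sub_add_cancel (by omega)] at hs
    have hmo : Odd m := hm.odd_of_ne_two (by omega)
    have hm5 : 5 ≤ m := by
      obtain ⟨l, hl⟩ := hmo
      omega
    have B' := B.congr e
    rw [← coe_minusForm] at B' hcard
    exact minus_false hs hm5 hmo (by rw [Nat.card_eq_fintype_card, h3]) hcard rfl B'

end Cfsg.Agent.H371.Core
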