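import Cfsg.Agent.H371.Core.Num
import Cfsg.Agent.S2238
import Cfsg.Agent.S0324
import Cfsg.Agent.S1159
import Cfsg.Agent.OddCyclic.ClaimC.SzIso

/-!
# Suzuki groups and small Ree groups (helper371)
-/

set_option autoImplicit false

namespace Cfsg.Agent.H371.Core

open Cfsg.Agent.H94

/-- numerics: `p, n` between `q - t + 1` and `q + t + 1` -/
theorem num_sz {p f n m q t : ℕ} (A : Ar p f n m) (ht : 8 ≤ t) (hq : t * t = 2 * q)
    (hp1 : q + 1 ≤ p + t) (hp2 : p ≤ q + t + 1) (hn1 : q + 1 ≤ n + t) (hn2 : n ≤ q + t + 1) : False := by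
  have hf := A.hf
  rcases Nat.lt_or_ge f 2 with h | h
  · obtain rfl : f = 1 := by omega
    have h1 := A.h
    rw [pow_one] at h1
    have h2 : q ≤ 3 * t := by omega
    nlinarith
  · have h1 : p ^ 2 ≤ p ^ f := Nat.pow_le_pow_right A.hp.pos h
    have h2 := A.h
    have h3 : p ^ 2 ≤ 2 * n + 1 := by omega
    -- `p ≥ t * t / 4 + 1`, `n ≤ t * t`
    have h4 : 2 * t ≤ q := by nlinarith
    have h5 : q + 2 ≤ 2 * p := by omega
    have h6 : n + 2 ≤ 2 * q := by omega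
    nlinarith

theorem num_sz8 {p n m : ℕ} (hp : p = 7 ∨ p = 13 ∨ p = 5) (hn : n = 7 ∨ n = 13 ∨ n = 5)
    (hnm : (n = m + 1 ∧ p ∣ 2 * n - 1) ∨ (m = n + 1 ∧ p ∣ 2 * n + 1)) (h5 : 5 = p ∨ 5 ∣ n ∨ 5 ∣ m)
    (h7 : 7 = p ∨ 7 ∣ n ∨ 7 ∣ m) (hpn : ¬ p ∣ n) (hok : Ok p n) : False := by
  rcases hp with rfl | rfl | rfl <;> rcases hn with rfl | rfl | rfl <;> rcases hnm with h | h <;>
    first
    | omega
    | exact absurd hok (by decide +kernel)

/-- numerics: `q = t ^ 2 / 3` -/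
theorem num_ree {p f n m q t : ℕ} (A : Ar p f n m) (ht : 9 ≤ t) (hq : t * t = 3 * q) (h3 : 3 ∣ t)
    (hp : p + t = q + 1 ∧ n = q + t + 1 ∨ p = q + t + 1 ∧ n + t = q + 1) : t = 9 := by
  have hf := A.hf
  have hqt : 3 * t ≤ q := by nlinarith
  have hf1 : f = 1 := by
    rcases Nat.lt_or_ge f 2 with h | h
    · omega
    · exfalso
      have h1 : p ^ 2 ≤ p ^ f := Nat.pow_le_pow_right A.hp.pos h
      have h2 := A.h
      have h3 : p ^ 2 ≤ 2 * n + 1 := by omega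
      have h5 : q + 2 ≤ 2 * p := by omega
      have h6 : n + 2 ≤ 2 * q := by omega
      nlinarith
  subst hf1
  have h1 := A.h
  rw [pow_one] at h1
  have h2 : p = 2 * n + 1 ∨ p + 1 = 2 * n := by omega
  have h4 : q + 2 = 3 * t ∨ q = 3 * t ∨ q + 1 = 3 * t := by omega
  rcases h4 with h4 | h4 | h4
  · exfalso; omega
  · have : t * t = 9 * t := by rw [hq, h4]; ring
    exact Nat.eq_of_mul_eq_mul_right (by omega) this
  · exfalso; omega

theorem not_sz' {F : Type*} [Field F] [Fintype F] {k : ℕ} (hk : 1 ≤ k) (hF : Fintype.card F = 2 ^ (2 * k + 1))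
    {p f n m : ℕ} (B : Bad ↥(Cfsg.Sz F k) p f n m) : False := by
  have hcard := Cfsg.Agent.S0324.result hk hF
  set q := 2 ^ (2 * k + 1) with hq
  set t := 2 ^ (k + 1) with ht
  have htq : t * t = 2 * q := by
    rw [ht, hq, ← pow_add, ← pow_succ']
    congr 1
    omega
  have hfin : Finite ↥(Cfsg.Sz F k) := Nat.finite_of_card_ne_zero (by
    rw [hcard]
    have : 2 ≤ q := by rw [hq]; exact Nat.le_self_pow (by omega) 2
    have h1 : 0 < q ^ 2 * (q ^ 2 + 1) * (q - 1) := by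
      apply Nat.mul_pos (Nat.mul_pos (by positivity) (by positivity)) (by omega)
    omega)
  -- cyclic subgroups containing odd elements
  have key : ∀ x : ↥(Cfsg.Sz F k), x ≠ 1 → ¬ 2 ∣ orderOf x →
      ∃ T, (T = q - 1 ∨ T = q + t + 1 ∨ T = q - t + 1) ∧ orderOf x ∣ T ∧ ∃ g : ↥(Cfsg.Sz F k), orderOf g = T := by
    intro x hx1 hx2
    obtain ⟨U, ⟨hU, hxU⟩, -⟩ := Cfsg.Agent.S2238.result hk hF x hx1
    rcases hU with ⟨P, rfl⟩ | ⟨hc, hN⟩
    · exfalso
      obtain ⟨j, hj⟩ := P.isPGroup' ⟨x, hxU⟩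
      have h3 : x ^ 2 ^ j = 1 := congrArg Subtype.val hj
      have h4 : orderOf x ∣ 2 ^ j := orderOf_dvd_of_pow_eq_one h3
      obtain ⟨i, -, hi⟩ := (Nat.dvd_prime_pow Nat.prime_two).1 h4
      rcases Nat.eq_zero_or_pos i with h0 | h0
      · rw [h0, pow_zero] at hi
        exact hx1 (orderOf_eq_one_iff.1 hi)
      · exact hx2 (hi ▸ dvd_pow_self 2 h0.ne')
    · refine ⟨Nat.card U, ?_, ?_, ?_⟩
      · rcases hN with h | h | h
        · exact Or.inl h
        · exact Or.inr (Or.inl h)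
        · exact Or.inr (Or.inr h)
      · rw [← Subgroup.orderOf_mk x hxU]
        exact orderOf_dvd_natCard _
      · obtain ⟨u, hu⟩ := hc.exists_generator
        refine ⟨u, ?_⟩
        rw [Subgroup.orderOf_coe]
        exact orderOf_eq_card_of_forall_mem_zpowers hu
  obtain ⟨x, hx⟩ := B.gp
  obtain ⟨y, hy⟩ := B.gn
  have hn3 := B.A.hn3
  have hp3 := B.A.p3
  obtain ⟨T, hT, hxT, hgT⟩ := key x (by rintro rfl; rw [orderOf_one] at hx; omega)
    (by rw [hx]; exact B.A.not_two_dvd_p)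
  obtain ⟨T', hT', hyT, hgT'⟩ := key y (by rintro rfl; rw [orderOf_one] at hy; omega)
    (by rw [hy]; exact B.A.not_two_dvd_n)
  rw [hx] at hxT
  rw [hy] at hyT
  have hTp := B.eq_p hgT hxT
  obtain ⟨r, hr, hrn⟩ := B.exists_prime
  have hTn := Nat.dvd_antisymm hyT (B.dvd_n hgT' hr hrn (hrn.trans hyT))
  rcases Nat.lt_or_ge k 2 with h2 | h2
  · obtain rfl : k = 1 := by omega
    have hq8 : q = 8 := by rw [hq]; norm_num
    have ht4 : t = 4 := by rw [ht]; norm_num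
    replace hcard : Nat.card ↥(Cfsg.Sz F 1) = 29120 := hcard.trans (by rw [hq8]; norm_num)
    rw [hq8, ht4] at hT hT'
    have h5 := B.prime_cases (r := 5) (by norm_num) (by rw [hcard]; norm_num)
    have h7 := B.prime_cases (r := 7) (by norm_num) (by rw [hcard]; norm_num)
    exact num_sz8 (by omega) (by omega) B.n_m_dvd h5 h7 B.A.not_p_dvd_n (B.ok (by
      have : (3 : ℕ) ^ 31 = 617673396283947 := by norm_num
      omega))
  · have ht8 : 8 ≤ t := by
      calc 8 = 2 ^ 3 := by norm_num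
        _ ≤ 2 ^ (k + 1) := Nat.pow_le_pow_right (by norm_num) (by omega)
    have hqt : 2 * t ≤ q := by nlinarith
    refine num_sz B.A ht8 htq ?_ ?_ ?_ ?_ <;> omega

/-- **No Suzuki group.** -/
theorem not_sz {S : Type*} [Group S] (h : Cfsg.Lie.IsoSuzuki S) {p f n m : ℕ} (B : Bad S p f n m) : False := by
  obtain ⟨F, _, _, k, hk, hF, ⟨e⟩⟩ := h
  obtain ⟨e'⟩ := Cfsg.Agent.OddCyclic.ClaimC.SzIso.iso hk hF
  exact not_sz' hk hF (B.congr (e.trans e'.symm))

/-- **No small Ree group.** -/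
theorem not_ree {S : Type*} [Group S] (h : Cfsg.Lie.IsoRee S) {p f n m : ℕ} (B : Bad S p f n m) : False := by
  obtain ⟨K, _, _, k, hk, hK, ⟨e⟩⟩ := h
  have B' := B.congr e
  have h1 := fun d => Cfsg.Agent.S1159.result hk hK d
  have hfin : Finite ↥(Cfsg.Lie.twistedG2 K (3 ^ k)) := inferInstance
  set q := 3 ^ (2 * k + 1) with hq
  set t := 3 ^ (k + 1) with ht
  have htq : t * t = 3 * q := by
    rw [ht, hq, ← pow_add, ← pow_succ']
    congr 1
    omega
  have ht9 : 9 ≤ t := by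
    calc 9 = 3 ^ 2 := by norm_num
      _ ≤ 3 ^ (k + 1) := Nat.pow_le_pow_right (by norm_num) (by omega)
  have ht3 : 3 ∣ t := dvd_pow_self 3 (by omega)
  have hqt : 3 * t ≤ q := by nlinarith
  have hq4 : q % 4 = 3 := by
    rw [hq, pow_succ, pow_mul, Nat.mul_mod, Nat.pow_mod]
    norm_num
  -- even orders
  have heven : ∀ {N r : ℕ}, (∃ g : ↥(Cfsg.Lie.twistedG2 K (3 ^ k)), orderOf g = N) → 2 ∣ N → r.Prime → r ∣ N →
      PG.Conn ↥(Cfsg.Lie.twistedG2 K (3 ^ k)) 2 r := by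
    rintro N r ⟨g, rfl⟩ h2 hr hrN
    exact PG.conn_of_orderOf Nat.prime_two hr h2 hrN
  have h23 : PG.Conn ↥(Cfsg.Lie.twistedG2 K (3 ^ k)) 2 3 :=
    heven ((h1 6).2 (Or.inl dvd_rfl)) (by norm_num) Nat.prime_three (by norm_num)
  have main : ∀ {N r : ℕ}, (∃ g : ↥(Cfsg.Lie.twistedG2 K (3 ^ k)), orderOf g = N) → r.Prime → r ∣ N → r ≠ 2 →
      ¬ PG.Conn ↥(Cfsg.Lie.twistedG2 K (3 ^ k)) 2 r → N ∣ q - t + 1 ∨ N ∣ q + t + 1 := by
    intro N r hN hr hrN hr2 hnc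
    rcases (h1 N).1 hN with h | h | h | h | h | h
    · exfalso
      have h' : r ∣ 2 * 3 := hrN.trans h
      rcases (Nat.Prime.dvd_mul hr).1 h' with h' | h'
      · exact hr2 ((Nat.prime_dvd_prime_iff_eq hr Nat.prime_two).1 h')
      · exact hnc ((Nat.prime_dvd_prime_iff_eq hr Nat.prime_three).1 h' ▸ h23)
    · exfalso
      have h' : r ∣ 3 ^ 2 := hrN.trans h
      exact hnc ((Nat.prime_dvd_prime_iff_eq hr Nat.prime_three).1 (hr.dvd_of_dvd_pow h') ▸ h23)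
    · exact absurd (heven ((h1 _).2 (Or.inr (Or.inr (Or.inl dvd_rfl)))) (by omega) hr (hrN.trans h)) hnc
    · exact absurd (heven ((h1 _).2 (Or.inr (Or.inr (Or.inr (Or.inl dvd_rfl))))) (by omega) hr (hrN.trans h)) hnc
    · exact Or.inl h
    · exact Or.inr h
  have hg1 := (h1 (q - t + 1)).2 (Or.inr (Or.inr (Or.inr (Or.inr (Or.inl dvd_rfl)))))
  have hg2 := (h1 (q + t + 1)).2 (Or.inr (Or.inr (Or.inr (Or.inr (Or.inr dvd_rfl)))))
  have hP : p = q - t + 1 ∨ p = q + t + 1 := by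
    rcases main B'.gp B'.A.hp dvd_rfl B'.A.hp2 B'.not_conn_p with h | h
    · exact Or.inl (B'.eq_p hg1 h).symm
    · exact Or.inr (B'.eq_p hg2 h).symm
  obtain ⟨r, hr, hrn⟩ := B'.exists_prime
  have hN : n = q - t + 1 ∨ n = q + t + 1 := by
    rcases main B'.gn hr hrn (B'.ne_two hrn) (B'.not_conn_n hr hrn) with h | h
    · exact Or.inl (Nat.dvd_antisymm h (B'.dvd_n hg1 hr hrn (hrn.trans h)))
    · exact Or.inr (Nat.dvd_antisymm h (B'.dvd_n hg2 hr hrn (hrn.trans h)))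
  have hne : p ≠ n := by
    intro h
    exact B'.A.not_p_dvd_n (dvd_of_eq h)
  have ht9' := num_ree B'.A ht9 htq ht3 (by omega)
  have hq27 : q = 27 := by
    rw [ht9'] at htq
    omega
  have h14 := B'.dvd_m_two ((h1 14).2 (Or.inr (Or.inr (Or.inr (Or.inl (by rw [hq27])))))) (by norm_num)
  have hA := B'.A.n_m
  have hAA := B'.A.h
  rw [ht9', hq27] at hP hN
  omega

end Cfsg.Agent.H371.Core
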